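import Cfsg.Agent.Lib.CosetEnum.Signed.Defs
import Cfsg.Agent.Lib.CosetEnum.LyG2.AB.TabF_Data0
import Cfsg.Agent.Lib.CosetEnum.LyG2.AB.TabC_Data0
import Cfsg.Agent.Lib.CosetEnum.LyG2.AB.TabZ_Data0
import Cfsg.Agent.Lib.CosetEnum.LyG2.AB.TabP_Data0

/-! Generated certificate. -/

set_option autoImplicit false
set_option maxRecDepth 20000

namespace Cfsg.Lib.CosetEnum.LyG2.AB

/-- Table. -/
def tabF : Tab :=
  tabF_0

/-- Table. -/
def tabC : Tab :=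
  tabC_0

/-- Table. -/
def tabZ : Tab :=
  tabZ_0

/-- Table. -/
def tabP : Tab :=
  tabP_0

/-- The shifts in use. -/
def relWords : List (List Nat) :=
  [[1, 1, 1, 1, 1],
    [6, 6, 7, 0, 0, 1],
    [0, 0, 0, 0, 0, 0, 0, 0],
    [0, 1, 0, 1, 0, 1, 0, 1],
    [6, 7, 0, 1, 6, 7, 0, 1, 6, 7, 0, 1],
    [0, 6],
    [1, 7],
    [6, 0],
    [7, 1],
    []]

/-- Subgroup words. -/
def subWords : List (List Nat) :=
  [[0]]

/-- The certificate. -/
def step : Signed.Cert :=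
  ⟨relWords, subWords, [0, 1, 6, 7], tabF, tabC, tabZ, tabP, 174, 427, 60, 6⟩

end Cfsg.Lib.CosetEnum.LyG2.AB
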